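import Mathlib.LinearAlgebra.Matrix.SpecialLinearGroup
import Mathlib.LinearAlgebra.Matrix.ProjectiveSpecialLinearGroup
import Mathlib.Data.ZMod.Basic
import Mathlib.GroupTheory.Index
import Mathlib.Data.Fintype.Pi

/-!
The order of the projective special linear group of degree two over the field with seven elements.
-/

set_option autoImplicit false
set_option maxRecDepth 100000

namespace Cfsg.Agent.Lie.PSpFourThreeAmalgam

theorem card_sl_seven : Fintype.card (Matrix.SpecialLinearGroup (Fin 2) (ZMod 7)) = 336 := by decide +kernel

theorem card_psl_seven : Nat.card (Matrix.ProjectiveSpecialLinearGroup (Fin 2) (ZMod 7)) = 168 := by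
  have h := (Subgroup.center (Matrix.SpecialLinearGroup (Fin 2) (ZMod 7))).card_mul_index
  have hc : Nat.card (Subgroup.center (Matrix.SpecialLinearGroup (Fin 2) (ZMod 7))) = 2 := by
    rw [Nat.card_eq_fintype_card]
    decide +kernel
  rw [hc, Nat.card_eq_fintype_card, card_sl_seven] at h
  show (Subgroup.center _).index = 168
  omega

end Cfsg.Agent.Lie.PSpFourThreeAmalgam
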